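import Mathlib

/-!
# Arithmetic for the orthogonal rows of S2454 (helper105)
-/

set_option autoImplicit false

namespace Cfsg.Agent.H105.Og

open Matrix

theorem card_gl_sl {F : Type*} [Field F] [Finite F] {n : ℕ} (hn : 1 ≤ n) :
    Nat.card (GL (Fin n) F) = (Nat.card F - 1) * Nat.card (SpecialLinearGroup (Fin n) F) := by
  have : NeZero n := ⟨by omega⟩
  have h1 : Function.Surjective (GeneralLinearGroup.det (n := Fin n) (R := F)) := by
    intro u
    refine ⟨GeneralLinearGroup.mkOfDetNeZero (diagonal (fun i => if i = 0 then (u : F) else 1)) ?_, ?_⟩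
    · rw [det_diagonal, Finset.prod_ite_eq' Finset.univ (0 : Fin n)]
      simp
    · apply Units.ext
      rw [GeneralLinearGroup.val_det_apply]
      show (diagonal (fun i => if i = 0 then (u : F) else 1)).det = u
      rw [det_diagonal, Finset.prod_ite_eq' Finset.univ (0 : Fin n)]
      simp
  have h2 := Subgroup.card_eq_card_quotient_mul_card_subgroup (GeneralLinearGroup.det (n := Fin n) (R := F)).ker
  rw [Nat.card_congr (QuotientGroup.quotientKerEquivOfSurjective _ h1).toEquiv] at h2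
  have : Fintype F := Fintype.ofFinite F
  rw [h2, Nat.card_units F]
  congr 1
  refine Nat.card_congr ⟨fun g => ⟨(g : GL (Fin n) F).1, ?_⟩, fun g => ⟨(g : GL (Fin n) F), ?_⟩, ?_, ?_⟩
  · have := g.2
    rw [MonoidHom.mem_ker] at this
    have h3 := congrArg Units.val this
    rw [GeneralLinearGroup.val_det_apply] at h3
    exact h3
  · rw [MonoidHom.mem_ker]
    apply Units.ext
    rw [GeneralLinearGroup.val_det_apply]
    exact g.2
  · intro g
    apply Subtype.ext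
    apply Units.ext
    rfl
  · intro g
    apply Subtype.ext
    rfl

theorem card_sl_eq {F : Type*} [Field F] [Finite F] {m : ℕ} :
    Nat.card (SpecialLinearGroup (Fin (m + 1)) F) =
      Nat.card F ^ m * ∏ i ∈ Finset.range m, (Nat.card F ^ (m + 1) - Nat.card F ^ i) := by
  have : Fintype F := Fintype.ofFinite F
  have h1 := card_gl_sl (F := F) (n := m + 1) (by omega)
  have h2 := card_GL_field (𝔽 := F) (m + 1)
  rw [Fin.prod_univ_eq_prod_range (fun i => Fintype.card F ^ (m + 1) - Fintype.card F ^ i) (m + 1),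
    Finset.prod_range_succ, ← Nat.card_eq_fintype_card] at h2
  have hq : 1 < Nat.card F := Finite.one_lt_card
  have h3 : Nat.card F ^ (m + 1) - Nat.card F ^ m = Nat.card F ^ m * (Nat.card F - 1) := by
    rw [pow_succ, Nat.mul_sub, mul_one]
  rw [h2, h3] at h1
  have h4 : 0 < Nat.card F - 1 := by omega
  apply Nat.eq_of_mul_eq_mul_left h4
  rw [← h1]
  ring

theorem not_dvd_of_sl {F : Type*} [Field F] [Finite F] {p n : ℕ} (hn : 2 ≤ n)
    (h : ¬ p ∣ Nat.card (SpecialLinearGroup (Fin n) F)) :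
    ¬ p ∣ Nat.card F ∧ ∀ j, 1 ≤ j → j ≤ n → ¬ p ∣ Nat.card F ^ j - 1 := by
  obtain ⟨m, rfl⟩ : ∃ m, n = m + 1 := ⟨n - 1, by omega⟩
  rw [card_sl_eq] at h
  have key : ∀ j, 2 ≤ j → j ≤ m + 1 → Nat.card F ^ j - 1 ∣
      Nat.card F ^ m * ∏ i ∈ Finset.range m, (Nat.card F ^ (m + 1) - Nat.card F ^ i) := by
    intro j hj1 hj2
    refine Dvd.dvd.mul_left (Dvd.dvd.trans ?_ (Finset.dvd_prod_of_mem _ (Finset.mem_range.2
      (show m + 1 - j < m by omega)))) _
    have h1 : Nat.card F ^ (m + 1) = Nat.card F ^ (m + 1 - j) * Nat.card F ^ j := by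
      rw [← pow_add]
      congr 1
      omega
    rw [h1]
    have h2 : Nat.card F ^ (m + 1 - j) * Nat.card F ^ j - Nat.card F ^ (m + 1 - j) =
        Nat.card F ^ (m + 1 - j) * (Nat.card F ^ j - 1) := by
      rw [Nat.mul_sub, mul_one]
    rw [h2]
    exact Dvd.intro_left _ rfl
  refine ⟨fun h1 => h (Dvd.dvd.mul_right (h1.trans (dvd_pow_self _ (by omega))) _), fun j hj1 hj2 h1 => ?_⟩
  rcases Nat.lt_or_ge 1 j with hj | hj
  · exact h (h1.trans (key j hj hj2))
  · obtain rfl : j = 1 := by omega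
    exact h (h1.trans ((Nat.pow_sub_one_dvd_pow_sub_one _ (show 1 ∣ 2 by omega)).trans (key 2 le_rfl hn)))

theorem ord_eq {p q n j : ℕ} (hp : p.Prime) (hq : 1 < q) (hpq : ¬ p ∣ q) (h1 : ∀ j, 1 ≤ j → j ≤ n → ¬ p ∣ q ^ j - 1)
    (hj : 1 ≤ j) (hjn : j ≤ n) (h : p ∣ q ^ (2 * j) - 1) :
    orderOf ((q : ℕ) : ZMod p) = 2 * j ∧ n < 2 * j := by
  have : Fact p.Prime := ⟨hp⟩
  have hz : ∀ k, p ∣ q ^ k - 1 ↔ ((q : ℕ) : ZMod p) ^ k = 1 := by
    intro k
    rw [← CharP.cast_eq_zero_iff (ZMod p) p, Nat.cast_sub (Nat.one_le_pow _ _ (by omega)), Nat.cast_one,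
      Nat.cast_pow, sub_eq_zero]
  have hq0 : ((q : ℕ) : ZMod p) ≠ 0 := by rwa [Ne, CharP.cast_eq_zero_iff (ZMod p) p]
  have he : orderOf ((q : ℕ) : ZMod p) ∣ 2 * j := orderOf_dvd_of_pow_eq_one ((hz _).1 h)
  have he0 : 0 < orderOf ((q : ℕ) : ZMod p) := Nat.pos_of_dvd_of_pos he (by omega)
  have hen : n < orderOf ((q : ℕ) : ZMod p) := by
    by_contra hc
    exact h1 _ he0 (by omega) ((hz _).2 (pow_orderOf_eq_one _))
  obtain ⟨k, hk⟩ := he
  have hk1 : k = 1 := by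
    rcases Nat.lt_or_ge k 2 with h2 | h2
    · interval_cases k
      · omega
      · rfl
    · have : orderOf ((q : ℕ) : ZMod p) * 2 ≤ orderOf ((q : ℕ) : ZMod p) * k := Nat.mul_le_mul_left _ h2
      omega
  subst hk1
  omega

theorem ord_eq' {p q n : ℕ} (hp : p.Prime) (hq : 1 < q) (hn : 1 ≤ n) (hpq : ¬ p ∣ q) (h1 : ∀ j, 1 ≤ j → j ≤ n → ¬ p ∣ q ^ j - 1)
    (h : p ∣ q ^ (n + 1) + 1) : orderOf ((q : ℕ) : ZMod p) = 2 * (n + 1) := by
  have : Fact p.Prime := ⟨hp⟩
  have hz : ∀ k, p ∣ q ^ k - 1 ↔ ((q : ℕ) : ZMod p) ^ k = 1 := by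
    intro k
    rw [← CharP.cast_eq_zero_iff (ZMod p) p, Nat.cast_sub (Nat.one_le_pow _ _ (by omega)), Nat.cast_one,
      Nat.cast_pow, sub_eq_zero]
  have hz1 : ((q : ℕ) : ZMod p) ^ (n + 1) = -1 := by
    rw [← CharP.cast_eq_zero_iff (ZMod p) p, Nat.cast_add, Nat.cast_pow, Nat.cast_one] at h
    exact eq_neg_of_add_eq_zero_left h
  have hz2 : ((q : ℕ) : ZMod p) ^ (2 * (n + 1)) = 1 := by
    rw [mul_comm, pow_mul, hz1]
    ring
  have hp2 : p ≠ 2 := by
    rintro rfl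
    apply h1 1 le_rfl hn
    rw [pow_one]
    have : q % 2 = 1 := by omega
    omega
  have hne : (1 : ZMod p) ≠ -1 := by
    intro h2
    have h3 : ((2 : ℕ) : ZMod p) = 0 := by
      have : (1 : ZMod p) + 1 = 0 := by nth_rewrite 1 [h2]; ring
      exact_mod_cast (by push_cast; linear_combination this : ((2 : ℕ) : ZMod p) = 0)
    rw [CharP.cast_eq_zero_iff (ZMod p) p] at h3
    exact hp2 ((Nat.prime_dvd_prime_iff_eq hp Nat.prime_two).1 h3)
  have he : orderOf ((q : ℕ) : ZMod p) ∣ 2 * (n + 1) := orderOf_dvd_of_pow_eq_one hz2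
  have he0 : 0 < orderOf ((q : ℕ) : ZMod p) := Nat.pos_of_dvd_of_pos he (by omega)
  have hen : n < orderOf ((q : ℕ) : ZMod p) := by
    by_contra hc
    exact h1 _ he0 (by omega) ((hz _).2 (pow_orderOf_eq_one _))
  obtain ⟨k, hk⟩ := he
  rcases Nat.lt_or_ge k 3 with h2 | h2
  · interval_cases k
    · omega
    · omega
    · exfalso
      have h3 : orderOf ((q : ℕ) : ZMod p) = n + 1 := by omega
      apply hne
      rw [← hz1, ← h3, pow_orderOf_eq_one]
  · exfalso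
    have : orderOf ((q : ℕ) : ZMod p) * 3 ≤ orderOf ((q : ℕ) : ZMod p) * k := Nat.mul_le_mul_left _ h2
    omega

end Cfsg.Agent.H105.Og
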