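import Mathlib
import Cfsg.Agent.H122.OrthIso
import Cfsg.Agent.H514.DP.Emb

/-!
# The orthogonal rows of S2454: definitions (helper105)

* `dotF κ F` : the form `x ⬝ᵥ y` on `(κ → F) × (κ → F)`;
* `HU κ R` : the form `x ⬝ᵥ y + R u` on `((κ → F) × (κ → F)) × U`;
* `slL`, `slE` : the embedding `SL κ F →* E (HU κ R)`, `M ↦ (M x, M⁻ᵀ y, u)`.
-/

set_option autoImplicit false

namespace Cfsg.Agent.H105.Og

open QuadraticMap Matrix Module Cfsg.Agent.LieClassical.OrthCore Cfsg.Agent.H514.DP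

variable {F : Type*} [Field F]

/-- `x ⬝ᵥ y` -/
def dotF (κ F : Type*) [Fintype κ] [Field F] : QuadraticForm F ((κ → F) × (κ → F)) :=
  ∑ i : κ, QuadraticMap.linMulLin (LinearMap.proj i ∘ₗ LinearMap.fst F (κ → F) (κ → F))
    (LinearMap.proj i ∘ₗ LinearMap.snd F (κ → F) (κ → F))

theorem dotF_apply {κ : Type*} [Fintype κ] (v : (κ → F) × (κ → F)) : dotF κ F v = v.1 ⬝ᵥ v.2 := by
  simp only [dotF, _root_.sum_apply, QuadraticMap.linMulLin_apply, LinearMap.comp_apply, LinearMap.fst_apply,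
    LinearMap.snd_apply, LinearMap.proj_apply, dotProduct]

theorem polar_dotF {κ : Type*} [Fintype κ] (v w : (κ → F) × (κ → F)) :
    polar (dotF κ F) v w = v.1 ⬝ᵥ w.2 + w.1 ⬝ᵥ v.2 := by
  simp only [polar, dotF_apply, Prod.fst_add, Prod.snd_add, add_dotProduct, dotProduct_add]
  ring

section HU

variable {U : Type*} [AddCommGroup U] [Module F U]

/-- the model: `x ⬝ᵥ y + R u` -/
def HU (κ : Type*) [Fintype κ] (R : QuadraticForm F U) : QuadraticForm F (((κ → F) × (κ → F)) × U) :=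
  QuadraticMap.prod (dotF κ F) R

theorem HU_apply {κ : Type*} [Fintype κ] (R : QuadraticForm F U) (v : ((κ → F) × (κ → F)) × U) :
    HU κ R v = v.1.1 ⬝ᵥ v.1.2 + R v.2 := by
  rw [HU, QuadraticMap.prod_apply, dotF_apply]

theorem polar_HU {κ : Type*} [Fintype κ] (R : QuadraticForm F U) (v w : ((κ → F) × (κ → F)) × U) :
    polar (HU κ R) v w = v.1.1 ⬝ᵥ w.1.2 + w.1.1 ⬝ᵥ v.1.2 + polar R v.2 w.2 := by
  simp only [polar, HU_apply, Prod.fst_add, Prod.snd_add, add_dotProduct, dotProduct_add]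
  ring

theorem nondeg_HU {κ : Type*} [Fintype κ] {R : QuadraticForm F U} (hR : Nondeg R) : Nondeg (HU κ R) := by
  classical
  intro v hv
  have h1 : v.1.1 = 0 := by
    funext i
    have := hv ((0, Pi.single i 1), 0)
    rw [polar_HU] at this
    simpa [polar] using this
  have h2 : v.1.2 = 0 := by
    funext i
    have := hv ((Pi.single i 1, 0), 0)
    rw [polar_HU] at this
    simpa [polar] using this
  have h3 : v.2 = 0 := by
    apply hR
    intro u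
    have := hv ((0, 0), u)
    rw [polar_HU] at this
    simpa using this
  exact Prod.ext (Prod.ext h1 h2) h3

variable {κ : Type*} [Fintype κ] [DecidableEq κ]

theorem val_mul_inv (M : SpecialLinearGroup κ F) : M.1 * (M⁻¹).1 = 1 := congrArg Subtype.val (mul_inv_cancel M)

theorem val_inv_mul (M : SpecialLinearGroup κ F) : (M⁻¹).1 * M.1 = 1 := congrArg Subtype.val (inv_mul_cancel M)

theorem val_inv_mul_rev (M N : SpecialLinearGroup κ F) : ((M * N)⁻¹).1 = (N⁻¹).1 * (M⁻¹).1 :=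
  congrArg Subtype.val (mul_inv_rev M N)

/-- the linear map of `M ∈ SL κ F` -/
def slF (U : Type*) [AddCommGroup U] [Module F U] (M : SpecialLinearGroup κ F) :
    (((κ → F) × (κ → F)) × U) ≃ₗ[F] (((κ → F) × (κ → F)) × U) where
  toFun v := ((M.1 *ᵥ v.1.1, ((M⁻¹).1)ᵀ *ᵥ v.1.2), v.2)
  map_add' v w := by
    refine Prod.ext (Prod.ext ?_ ?_) rfl
    · exact Matrix.mulVec_add _ _ _
    · exact Matrix.mulVec_add _ _ _
  map_smul' c v := by
    refine Prod.ext (Prod.ext ?_ ?_) rfl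
    · exact Matrix.mulVec_smul _ _ _
    · exact Matrix.mulVec_smul _ _ _
  invFun v := (((M⁻¹).1 *ᵥ v.1.1, (M.1)ᵀ *ᵥ v.1.2), v.2)
  left_inv v := by
    refine Prod.ext (Prod.ext ?_ ?_) rfl
    · show (M⁻¹).1 *ᵥ (M.1 *ᵥ v.1.1) = v.1.1
      rw [Matrix.mulVec_mulVec, val_inv_mul, Matrix.one_mulVec]
    · show (M.1)ᵀ *ᵥ (((M⁻¹).1)ᵀ *ᵥ v.1.2) = v.1.2
      rw [Matrix.mulVec_mulVec, ← Matrix.transpose_mul, val_inv_mul, Matrix.transpose_one, Matrix.one_mulVec]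
  right_inv v := by
    refine Prod.ext (Prod.ext ?_ ?_) rfl
    · show M.1 *ᵥ ((M⁻¹).1 *ᵥ v.1.1) = v.1.1
      rw [Matrix.mulVec_mulVec, val_mul_inv, Matrix.one_mulVec]
    · show ((M⁻¹).1)ᵀ *ᵥ ((M.1)ᵀ *ᵥ v.1.2) = v.1.2
      rw [Matrix.mulVec_mulVec, ← Matrix.transpose_mul, val_mul_inv, Matrix.transpose_one, Matrix.one_mulVec]

theorem slF_apply (M : SpecialLinearGroup κ F) (v : ((κ → F) × (κ → F)) × U) :
    slF U M v = ((M.1 *ᵥ v.1.1, ((M⁻¹).1)ᵀ *ᵥ v.1.2), v.2) := rfl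

/-- the embedding of `SL κ F` -/
def slL (κ : Type*) [Fintype κ] [DecidableEq κ] (F U : Type*) [Field F] [AddCommGroup U] [Module F U] :
    SpecialLinearGroup κ F →* ((((κ → F) × (κ → F)) × U) ≃ₗ[F] (((κ → F) × (κ → F)) × U)) where
  toFun M := slF U M
  map_one' := by
    apply LinearEquiv.ext
    intro v
    rw [slF_apply, inv_one]
    refine Prod.ext (Prod.ext ?_ ?_) rfl
    · exact Matrix.one_mulVec _
    · show ((1 : SpecialLinearGroup κ F).1)ᵀ *ᵥ v.1.2 = v.1.2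
      have : (1 : SpecialLinearGroup κ F).1 = 1 := rfl
      rw [this, Matrix.transpose_one, Matrix.one_mulVec]
  map_mul' M N := by
    apply LinearEquiv.ext
    intro v
    refine Prod.ext (Prod.ext ?_ ?_) rfl
    · show (M * N).1 *ᵥ v.1.1 = M.1 *ᵥ (N.1 *ᵥ v.1.1)
      rw [Matrix.mulVec_mulVec]
      rfl
    · show (((M * N)⁻¹).1)ᵀ *ᵥ v.1.2 = ((M⁻¹).1)ᵀ *ᵥ (((N⁻¹).1)ᵀ *ᵥ v.1.2)
      rw [val_inv_mul_rev, Matrix.transpose_mul, Matrix.mulVec_mulVec]

theorem slL_apply (M : SpecialLinearGroup κ F) (v : ((κ → F) × (κ → F)) × U) :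
    slL κ F U M v = ((M.1 *ᵥ v.1.1, ((M⁻¹).1)ᵀ *ᵥ v.1.2), v.2) := rfl

theorem slL_isom (R : QuadraticForm F U) (M : SpecialLinearGroup κ F) (v : ((κ → F) × (κ → F)) × U) :
    HU κ R (slL κ F U M v) = HU κ R v := by
  rw [slL_apply, HU_apply, HU_apply]
  show M.1 *ᵥ v.1.1 ⬝ᵥ ((M⁻¹).1)ᵀ *ᵥ v.1.2 + R v.2 = _
  rw [Matrix.mulVec_transpose, dotProduct_comm, ← Matrix.dotProduct_mulVec, Matrix.mulVec_mulVec, val_inv_mul,
    Matrix.one_mulVec, dotProduct_comm]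

end HU

end Cfsg.Agent.H105.Og
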