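import Mathlib
import Cfsg.Agent.H105.Og.Defs
import Cfsg.Agent.LieClassical.SLGen
import Cfsg.Agent.LieClassical.OrthFinite
import Cfsg.Agent.LieClassical.OrthTrans

/-!
# `SL κ F → E (HU κ R)` (helper105)
-/

set_option autoImplicit false

namespace Cfsg.Agent.H105.Og

open QuadraticMap Matrix Module Cfsg.Agent.LieClassical.SLGen Cfsg.Agent.LieClassical.OrthCore
  Cfsg.Agent.LieClassical.OrthTrans Cfsg.Agent.LieClassical.OrthFinite Cfsg.Agent.H514.DP

variable {F : Type*} [Field F] {U : Type*} [AddCommGroup U] [Module F U]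
  {κ : Type*} [Fintype κ] [DecidableEq κ]

theorem trans_mulVec {i j : κ} (h : i ≠ j) (c : F) (v : κ → F) :
    (SpecialLinearGroup.transvection h c).1 *ᵥ v = v + (c * v j) • Pi.single i (1 : F) :=
  transvection_smul h c v

theorem trans_inv_mulVec {i j : κ} (h : i ≠ j) (c : F) (v : κ → F) :
    (((SpecialLinearGroup.transvection h c)⁻¹).1)ᵀ *ᵥ v = v - (c * v i) • Pi.single j (1 : F) := by
  rw [SpecialLinearGroup.transvection_inv, SpecialLinearGroup.transvection_coe,
    Matrix.transpose_add, Matrix.transpose_one, Matrix.transpose_single, Matrix.add_mulVec, Matrix.one_mulVec,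
    Matrix.single_mulVec]
  funext k
  by_cases hk : k = j
  · subst hk
    simp [sub_eq_add_neg]
  · simp [hk, Function.update]

theorem slL_transvection (R : QuadraticForm F U) {i j : κ} (h : i ≠ j) (c : F)
    (hu : HU κ R ((0, Pi.single j c), 0) = 0)
    (hw : polar (HU κ R) ((0, Pi.single j c), 0) ((Pi.single i 1, 0), 0) = 0) :
    slL κ F U (SpecialLinearGroup.transvection h c) =
      siegel (HU κ R) ((0, Pi.single j c), 0) ((Pi.single i 1, 0), 0) hu hw := by
  apply LinearEquiv.ext
  intro v
  rw [siegel_apply, slL_apply, polar_HU, polar_HU, HU_apply, trans_mulVec, trans_inv_mulVec]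
  have e1 : v.1.1 ⬝ᵥ (Pi.single j c : κ → F) = c * v.1.1 j := by
    rw [dotProduct_single, mul_comm]
  have e2 : (Pi.single i 1 : κ → F) ⬝ᵥ v.1.2 = v.1.2 i := by
    rw [single_dotProduct, one_mul]
  have e3 : polar R 0 v.2 = 0 := by simp [polar]
  simp only [zero_dotProduct, dotProduct_zero, e1, e2, e3, map_zero, add_zero, zero_add, zero_mul,
    zero_smul, sub_zero]
  refine Prod.ext (Prod.ext ?_ ?_) ?_
  · funext k
    simp
  · funext k
    by_cases hk : k = j
    · subst hk
      simp
      ring
    · simp [hk]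
  · simp

theorem slL_mem_E (R : QuadraticForm F U) (M : SpecialLinearGroup κ F) : slL κ F U M ∈ E (HU κ R) := by
  have h1 : (⊤ : Subgroup (SpecialLinearGroup κ F)) ≤ (E (HU κ R)).comap (slL κ F U) := by
    rw [← closure_transvections, Subgroup.closure_le]
    rintro _ ⟨i, j, h, c, rfl⟩
    have hu : HU κ R ((0, Pi.single j c), 0) = 0 := by
      rw [HU_apply]
      simp
    have hw : polar (HU κ R) ((0, Pi.single j c), 0) ((Pi.single i 1, 0), 0) = 0 := by
      rw [polar_HU]
      simp [polar, h]
    rw [SetLike.mem_coe, Subgroup.mem_comap, slL_transvection R h c hu hw]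
    exact siegel_mem_E hu hw
  exact h1 (Subgroup.mem_top M)

/-- the embedding `SL κ F →* E (HU κ R)` -/
def slE (R : QuadraticForm F U) (κ : Type*) [Fintype κ] [DecidableEq κ] :
    SpecialLinearGroup κ F →* E (HU κ R) :=
  (slL κ F U).codRestrict _ (slL_mem_E R)

theorem slE_coe (R : QuadraticForm F U) (M : SpecialLinearGroup κ F) : (slE R κ M : _) = slL κ F U M := rfl

/-! ### Finite fields -/

theorem finrank_HU [FiniteDimensional F U] (n : ℕ) :
    finrank F (((Fin n → F) × (Fin n → F)) × U) = 2 * n + finrank F U := by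
  rw [Module.finrank_prod, Module.finrank_prod, Module.finrank_fin_fun]
  ring

theorem good_HU [Finite F] [FiniteDimensional F U] {n : ℕ} {R : QuadraticForm F U} (hR : Nondeg R)
    (hd : 5 ≤ 2 * n + finrank F U) : Good (HU (Fin n) R) :=
  good_of_finite (nondeg_HU hR) (by rw [finrank_HU]; exact hd)

theorem perfect_of_good {V : Type*} [AddCommGroup V] [Module F V] {Q : QuadraticForm F V} (hG : Good Q) :
    commutator (E Q) = ⊤ := by
  have h := hG.E_perfect
  have h2 : (commutator (E Q)).map (E Q).subtype = E Q := by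
    rw [commutator_def, Subgroup.map_commutator, ← MonoidHom.range_eq_map, Subgroup.range_subtype, h]
  apply Subgroup.map_injective (Subgroup.subtype_injective (E Q))
  rw [h2, ← MonoidHom.range_eq_map, Subgroup.range_subtype]

end Cfsg.Agent.H105.Og
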