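import Mathlib
import Cfsg.Agent.H105.Og.SlE

/-!
# Extension of `E (HU κ' R0) → E (HU κ R)` along an injection `κ' ↪ κ` (helper105)
-/

set_option autoImplicit false
set_option linter.unusedSectionVars false

namespace Cfsg.Agent.H105.Og

open QuadraticMap Matrix Module Cfsg.Agent.LieClassical.OrthCore Cfsg.Agent.H514.DP

section Gen

variable {F : Type*} [Field F] {V0 V : Type*} [AddCommGroup V0] [Module F V0] [AddCommGroup V] [Module F V]

/-- extension by the identity on the kernel of the retraction -/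
def extL (i : V0 →ₗ[F] V) (r : V →ₗ[F] V0) (hri : ∀ x, r (i x) = x) (g : V0 ≃ₗ[F] V0) : V ≃ₗ[F] V where
  toFun v := v + i (g (r v) - r v)
  map_add' v w := by simp only [map_add, map_sub]; abel
  map_smul' c v := by simp only [map_smul, map_sub, RingHom.id_apply, smul_add, smul_sub]
  invFun v := v + i (g.symm (r v) - r v)
  left_inv v := by
    simp only [map_add, map_sub, hri, LinearEquiv.symm_apply_apply]
    abel
  right_inv v := by
    simp only [map_add, map_sub, hri, LinearEquiv.apply_symm_apply]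
    abel

variable (i : V0 →ₗ[F] V) (r : V →ₗ[F] V0) (hri : ∀ x, r (i x) = x)

theorem extL_apply (g : V0 ≃ₗ[F] V0) (v : V) : extL i r hri g v = v + i (g (r v) - r v) := rfl

/-- the homomorphism -/
def extH : (V0 ≃ₗ[F] V0) →* (V ≃ₗ[F] V) where
  toFun := extL i r hri
  map_one' := by
    apply LinearEquiv.ext
    intro v
    rw [extL_apply]
    show v + i (r v - r v) = v
    rw [sub_self, map_zero, add_zero]
  map_mul' g h := by
    apply LinearEquiv.ext
    intro v
    show v + i (g (h (r v)) - r v) = extL i r hri g (extL i r hri h v)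
    rw [extL_apply, extL_apply]
    have h1 : r (v + i (h (r v) - r v)) = h (r v) := by rw [map_add, hri]; abel
    rw [h1]
    simp only [map_sub]
    abel

theorem extH_apply (g : V0 ≃ₗ[F] V0) (v : V) : extH i r hri g v = v + i (g (r v) - r v) := rfl

variable {Q0 : QuadraticForm F V0} {Q : QuadraticForm F V} (hQ : ∀ x, Q (i x) = Q0 x)
  (hp : ∀ x v, polar Q (i x) v = polar Q0 x (r v))

include hQ hp in
theorem extH_siegel {u w : V0} (hu : Q0 u = 0) (hw : polar Q0 u w = 0) :
    extH i r hri (siegel Q0 u w hu hw) =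
      siegel Q (i u) (i w) (by rw [hQ, hu]) (by rw [hp, hri, hw]) := by
  apply LinearEquiv.ext
  intro v
  rw [extH_apply, siegel_apply, siegel_apply, hp, hp, hQ]
  simp only [map_sub, map_add, map_smul]
  abel

include hQ hp in
theorem extH_mem {g : V0 ≃ₗ[F] V0} (hg : g ∈ E Q0) : extH i r hri g ∈ E Q := by
  have h : E Q0 ≤ (E Q).comap (extH i r hri) := by
    rw [E, Subgroup.closure_le]
    rintro _ ⟨u, w, hu, hw, rfl⟩
    rw [SetLike.mem_coe, Subgroup.mem_comap, extH_siegel i r hri hQ hp hu hw]
    exact siegel_mem_E _ _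
  exact h hg

/-- the homomorphism of the groups generated by the Siegel elements -/
def extE : E Q0 →* E Q :=
  ((extH i r hri).comp (E Q0).subtype).codRestrict _ (fun g => extH_mem i r hri hQ hp g.2)

theorem extE_coe (g : E Q0) : ((extE i r hri hQ hp g : E Q) : V ≃ₗ[F] V) = extH i r hri g := rfl

end Gen

section HUmap

variable {F : Type*} [Field F] {U0 U : Type*} [AddCommGroup U0] [Module F U0] [AddCommGroup U] [Module F U]
  {κ' κ : Type*} [Fintype κ'] [Fintype κ]

theorem ext_dot (s : κ' ↪ κ) (x : κ' → F) (y : κ → F) :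
    Function.extend s x 0 ⬝ᵥ y = x ⬝ᵥ (y ∘ s) := by
  rw [dotProduct, dotProduct]
  symm
  apply Fintype.sum_of_injective s s.injective
  · intro k hk
    rw [Function.extend_apply' _ _ _ (fun ⟨a, ha⟩ => hk ⟨a, ha⟩)]
    simp
  · intro k
    rw [s.injective.extend_apply]
    rfl

/-- the inclusion -/
noncomputable def inc (s : κ' ↪ κ) (F U0 U : Type*) [Field F] [AddCommGroup U0] [Module F U0] [AddCommGroup U]
    [Module F U] : (((κ' → F) × (κ' → F)) × U0) →ₗ[F] (((κ → F) × (κ → F)) × U) where
  toFun v := ((Function.extend s v.1.1 0, Function.extend s v.1.2 0), 0)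
  map_add' v w := by
    have h := fun (a b : κ' → F) => (Function.extend_add s a b 0 0)
    refine Prod.ext (Prod.ext ?_ ?_) ?_
    · have := h v.1.1 w.1.1
      rw [add_zero] at this
      exact this
    · have := h v.1.2 w.1.2
      rw [add_zero] at this
      exact this
    · exact (add_zero _).symm
  map_smul' c v := by
    have h := fun (a : κ' → F) => (Function.extend_smul c s a 0)
    refine Prod.ext (Prod.ext ?_ ?_) ?_
    · have := h v.1.1
      rw [smul_zero] at this
      exact this
    · have := h v.1.2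
      rw [smul_zero] at this
      exact this
    · exact (smul_zero _).symm

theorem inc_apply (s : κ' ↪ κ) (v : ((κ' → F) × (κ' → F)) × U0) :
    inc s F U0 U v = ((Function.extend s v.1.1 0, Function.extend s v.1.2 0), 0) := rfl

/-- the restriction -/
def res (s : κ' ↪ κ) (F U0 U : Type*) [Field F] [AddCommGroup U0] [Module F U0] [AddCommGroup U]
    [Module F U] : (((κ → F) × (κ → F)) × U) →ₗ[F] (((κ' → F) × (κ' → F)) × U0) where
  toFun v := ((v.1.1 ∘ s, v.1.2 ∘ s), 0)
  map_add' v w := by
    refine Prod.ext (Prod.ext ?_ ?_) ?_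
    · rfl
    · rfl
    · exact (add_zero _).symm
  map_smul' c v := by
    refine Prod.ext (Prod.ext ?_ ?_) ?_
    · rfl
    · rfl
    · exact (smul_zero _).symm

theorem res_apply (s : κ' ↪ κ) (v : ((κ → F) × (κ → F)) × U) :
    res s F U0 U v = ((v.1.1 ∘ s, v.1.2 ∘ s), 0) := rfl

theorem ext_comp (s : κ' ↪ κ) (x : κ' → F) : Function.extend s x 0 ∘ s = x := by
  funext k
  rw [Function.comp_apply, s.injective.extend_apply]

theorem res_inc (s : κ' ↪ κ) (h0 : ∀ u : U0, u = 0) (v : ((κ' → F) × (κ' → F)) × U0) :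
    res s F U0 U (inc s F U0 U v) = v := by
  rw [res_apply, inc_apply]
  refine Prod.ext (Prod.ext ?_ ?_) ?_
  · exact ext_comp s _
  · exact ext_comp s _
  · exact (h0 _).symm

theorem HU_inc (s : κ' ↪ κ) (h0 : ∀ u : U0, u = 0) (R0 : QuadraticForm F U0) (R : QuadraticForm F U)
    (v : ((κ' → F) × (κ' → F)) × U0) : HU κ R (inc s F U0 U v) = HU κ' R0 v := by
  rw [HU_apply, HU_apply, inc_apply, ext_dot, ext_comp, h0 v.2, map_zero, map_zero]

theorem polar_inc (s : κ' ↪ κ) (h0 : ∀ u : U0, u = 0) (R0 : QuadraticForm F U0) (R : QuadraticForm F U)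
    (x : ((κ' → F) × (κ' → F)) × U0) (v : ((κ → F) × (κ → F)) × U) :
    polar (HU κ R) (inc s F U0 U x) v = polar (HU κ' R0) x (res s F U0 U v) := by
  rw [polar_HU, polar_HU, inc_apply, res_apply, ext_dot, dotProduct_comm v.1.1, ext_dot, h0 x.2]
  have e1 : polar R 0 v.2 = 0 := by simp [polar]
  have e2 : polar R0 0 0 = 0 := by simp [polar]
  rw [e1, e2, dotProduct_comm (v.1.1 ∘ s)]

/-- the extension homomorphism -/
noncomputable def psi (s : κ' ↪ κ) (h0 : ∀ u : U0, u = 0) (R0 : QuadraticForm F U0) (R : QuadraticForm F U) :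
    E (HU κ' R0) →* E (HU κ R) :=
  extE (inc s F U0 U) (res s F U0 U) (res_inc s h0) (HU_inc s h0 R0 R) (polar_inc s h0 R0 R)

variable [DecidableEq κ'] [DecidableEq κ]

theorem embM_transpose (s : κ' ↪ κ) (M : Matrix κ' κ' F) : (embM s M)ᵀ = embM s Mᵀ := by
  refine eq_embM _ _ _ (fun i j => ?_) (fun x y hx => ?_) (fun x y hy => ?_)
  · rw [transpose_apply, embM_apply, transpose_apply]
  · rw [transpose_apply, embM_right s M y hx, one_apply, one_apply]
    simp only [eq_comm]
  · rw [transpose_apply, embM_left s M hy, one_apply, one_apply]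
    simp only [eq_comm]

theorem embM_mulVec' (s : κ' ↪ κ) (M : Matrix κ' κ' F) (x : κ → F) :
    embM s M *ᵥ x = x + Function.extend s (M *ᵥ (x ∘ s) - x ∘ s) 0 := by
  funext k
  by_cases hk : k ∈ Set.range s
  · obtain ⟨a, rfl⟩ := hk
    rw [Pi.add_apply, s.injective.extend_apply, Pi.sub_apply, Function.comp_apply, add_sub_cancel, mulVec,
      mulVec, dotProduct, dotProduct]
    symm
    apply Fintype.sum_of_injective s s.injective
    · intro y hy
      rw [embM_right s M _ hy, one_apply_ne, zero_mul]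
      rintro rfl
      exact hy ⟨a, rfl⟩
    · intro b
      rw [embM_apply]
      rfl
  · rw [Pi.add_apply, Function.extend_apply' _ _ _ (fun ⟨a, ha⟩ => hk ⟨a, ha⟩), mulVec]
    have : (fun j => embM s M k j) = (1 : Matrix κ κ F) k := by
      funext y
      exact embM_left s M hk y
    rw [this, ← mulVec, one_mulVec]
    simp

theorem psi_slE (s : κ' ↪ κ) (h0 : ∀ u : U0, u = 0) (R0 : QuadraticForm F U0) (R : QuadraticForm F U)
    (M : SpecialLinearGroup κ' F) : psi s h0 R0 R (slE R0 κ' M) = slE R κ (emb s M) := by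
  apply Subtype.ext
  apply LinearEquiv.ext
  intro v
  rw [slE_coe, psi, extE_coe, extH_apply, slE_coe, slL_apply, slL_apply, res_apply, ← map_inv (emb s), emb_coe,
    emb_coe, embM_transpose, embM_mulVec', embM_mulVec']
  refine Prod.ext (Prod.ext ?_ ?_) ?_
  · rfl
  · rfl
  · exact add_zero _

end HUmap

end Cfsg.Agent.H105.Og
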