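import Mathlib
import Cfsg.Agent.H105.Og.Ext
import Cfsg.Agent.H785.CompLemF
import Cfsg.Agent.H514.DP.Core
import Cfsg.Agent.H514.DP.Windows

/-!
# The engine for the orthogonal rows of S2454 (helper105)
-/

set_option autoImplicit false
set_option linter.unusedSectionVars false

namespace Cfsg.Agent.H105.Og

open QuadraticMap Matrix Module Subgroup Polynomial Cfsg.Agent.LieClassical.OrthCore Cfsg.Agent.H514.DP

variable {F : Type} [Field F] [Finite F] {U : Type} [AddCommGroup U] [Module F U] [FiniteDimensional F U]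

theorem card_centralizer_le {V : Type} [AddCommGroup V] [Module F V] [FiniteDimensional F V]
    {Q : QuadraticForm F V} (g : E Q) :
    Nat.card (centralizer ({g} : Set (E Q))) ≤
      Nat.card {y : Module.End F V // Commute ((g : V ≃ₗ[F] V) : V →ₗ[F] V) y ∧ ∀ v, Q (y v) = Q v} := by
  have : Finite V := Module.finite_of_finite F
  have : Finite (Module.End F V) := Finite.of_injective (fun f : Module.End F V => (f : V → V)) DFunLike.coe_injective
  refine Nat.card_le_card_of_injective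
    (fun h => ⟨(((h : E Q) : V ≃ₗ[F] V) : V →ₗ[F] V), ?_, fun v => mem_O.1 (E_le_O (h : E Q).2) v⟩) ?_
  · have h1 : g * (h : E Q) = (h : E Q) * g := (Subgroup.mem_centralizer_singleton_iff.1 h.2).symm
    have h2 := congrArg (fun z : E Q => ((z : V ≃ₗ[F] V) : V →ₗ[F] V)) h1
    exact h2
  · intro a b hab
    have h1 := congrArg Subtype.val hab
    have h2 := LinearEquiv.toLinearMap_injective h1
    exact Subtype.ext (Subtype.ext h2)

theorem finite_E {V : Type} [AddCommGroup V] [Module F V] [FiniteDimensional F V]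
    (Q : QuadraticForm F V) : Finite (E Q) := by
  have : Finite V := Module.finite_of_finite F
  have : Finite (V ≃ₗ[F] V) := Finite.of_injective (fun f : V ≃ₗ[F] V => (f : V → V)) DFunLike.coe_injective
  infer_instance

/-- the bound for the centralizer, as in `lemmaB` -/
def CentB (n : ℕ) (R : QuadraticForm F U) (c : ℕ) : Prop :=
  ∀ (A : SpecialLinearGroup (Fin n) F) (P : F[X]), aeval A.1 P = 0 →
    (∀ x : Fin n → F, (aeval (A⁻¹).1 P) *ᵥ x = 0 → x = 0) → P.eval 1 ≠ 0 →
    ∀ v0 : Fin n → F, v0 ≠ 0 → Submodule.span F (Set.range fun i : ℕ => (A.1 ^ i) *ᵥ v0) = ⊤ →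
    Nat.card {y : Module.End F (((Fin n → F) × (Fin n → F)) × U) //
      Commute (slL (Fin n) F U A : (((Fin n → F) × (Fin n → F)) × U) →ₗ[F] (((Fin n → F) × (Fin n → F)) × U)) y ∧
        ∀ v, HU (Fin n) R (y v) = HU (Fin n) R v} ≤ (Nat.card F ^ n - 1) * c

theorem engine {n : ℕ} (hn : 3 ≤ n) {R : QuadraticForm F U} (hR : Nondeg R) {c d p : ℕ}
    (hc : CentB n R c) (hA : MinDeg (E (HU (Fin n) R)) d)
    (hnum : ((Nat.card F ^ n - 1) * c - 1) ^ 7 < d ^ 10)
    (hy : ∀ (cc : ℕ → F) (h : (comp n cc).det = 1), PE p 10 (slE R (Fin n) (compSL n cc h))) :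
    PW p 70 (E (HU (Fin n) R)) := by
  have hfin : Finite (E (HU (Fin n) R)) := finite_E _
  obtain ⟨cc, h, P, v0, h1, h2, h3, h4, h5⟩ := H785.CompLem.lemmaF (F := F) hn
  have hperf : commutator (E (HU (Fin n) R)) = ⊤ := perfect_of_good (good_HU hR (by omega))
  have hcard := (card_centralizer_le (slE R (Fin n) (compSL n cc h))).trans (hc _ P h1 h2 h3 v0 h4 h5)
  exact PW.of_pe (m := 10) (k := 7) hperf (hy cc h) hA (by norm_num)
    (lt_of_le_of_lt (Nat.pow_le_pow_left (Nat.sub_le_sub_right hcard 1) 7) hnum)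

/-- windows: products of elements of two subgroups `E (HU (Fin (i+1)) 0)` -/
theorem windows {n i : ℕ} (hi1 : i + 1 ≤ n) (hi2 : n < 2 * i) (R : QuadraticForm F U) {p m : ℕ}
    (hW : PW p m (E (HU (Fin (i + 1)) (0 : QuadraticForm F (Fin 0 → F)))))
    (cc : ℕ → F) (h : (comp n cc).det = 1) : PE p (m + m) (slE R (Fin n) (compSL n cc h)) := by
  have key : ∀ (w l : ℕ) (hl : l + w ≤ n) (M : SpecialLinearGroup (Fin w) F), w ≤ i + 1 →
      PE p m (slE R (Fin n) (emb (sh l hl) M)) := by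
    intro w l hl M hw
    have h0 : ∀ u : Fin 0 → F, u = 0 := fun u => Subsingleton.elim _ _
    obtain ⟨l0, l1, hl0, e1, hl1⟩ : ∃ l0 l1 : ℕ, l0 + (i + 1) ≤ n ∧ l0 + l1 = l ∧ l1 + w ≤ i + 1 := by
      by_cases hh : l + (i + 1) ≤ n
      · exact ⟨l, 0, hh, by omega, by omega⟩
      · exact ⟨n - (i + 1), l - (n - (i + 1)), by omega, by omega, by omega⟩
    have e2 : (sh l1 hl1).trans (sh l0 hl0) = sh l hl := by
      ext k
      show l0 + (l1 + k) = l + k
      omega
    rw [← e2, ← emb_trans, ← psi_slE (sh l0 hl0) h0 0 R]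
    exact (hW _).map _
  obtain ⟨b, rfl⟩ : ∃ b, n = i + b + 1 := ⟨n - 1 - i, by omega⟩
  obtain ⟨c', c'', h', h'', e⟩ := exists_comp_mul i b cc h
  rw [e, map_mul]
  exact (key _ _ _ _ le_rfl).mul (key _ _ _ _ (by omega))

end Cfsg.Agent.H105.Og
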