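import Mathlib
import Cfsg.Agent.H105.Og.Deg
import Cfsg.Agent.H166.Og.XLem
import Cfsg.Agent.H105.Og.Engine
import Cfsg.Agent.H105.Og.Arith
import Cfsg.Agent.H105.Og.TransOdd
import Cfsg.Agent.H36.Og.TransPlus
import Cfsg.Agent.H926.TransMinus
import Cfsg.Agent.H926.OgCent
import Cfsg.Agent.H889.Og.Num
import Cfsg.Agent.H16.Og.Seven
import Cfsg.Agent.H124.Og.Eight
import Cfsg.Agent.H127.Og.Eight
import Cfsg.Agent.H514.DP.SLRes
import Cfsg.Agent.H990.TC.Cent
import Cfsg.Prelude.Def_LieTypeChar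

/-!
# S2454, the orthogonal rows (helper105)
-/

set_option autoImplicit false
set_option linter.unusedSectionVars false

namespace Cfsg.Agent.H105.Og

open QuadraticMap Cfsg Matrix Module Subgroup Polynomial Cfsg.Agent.LieClassical.OrthCore Cfsg.Agent.H514.DP

section

variable {F : Type} [Field F] [Finite F] {U : Type} [AddCommGroup U] [Module F U] [FiniteDimensional F U]

theorem centB_of {n : ℕ} {R : QuadraticForm F U} {c : ℕ}
    (hc : Nat.card {y : Module.End F U // ∀ u, R (y u) = R u} ≤ c) : CentB n R c :=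
  fun A P hP hP' hP1 v0 hv0 hcyc => H926.OgCent.lemmaB R A P hP hP' hP1 v0 hv0 hcyc hc

theorem nd {R : QuadraticForm F U} (hR : Nondeg R) : ∀ u, (∀ v, QuadraticMap.polar R v u = 0) → u = 0 :=
  fun u hu => hR u (fun v => by rw [polar_comm]; exact hu v)

/-- the bound for the degrees used below -/
abbrev dB (q n r : ℕ) : ℕ := (q - 1) * (q ^ (2 * n + r - 4) + q ^ (2 * n + r - 5)) - 1

theorem engine' {n r c : ℕ} {R : QuadraticForm F U} (hR : Nondeg R) (hr : finrank F U = r)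
    (hcase : (r = 0 ∧ 4 ≤ n ∧ c = 1) ∨ (r = 1 ∧ 3 ≤ n ∧ 3 ≤ Nat.card F ∧ c = 2) ∨ (r = 2 ∧ 3 ≤ n ∧ c = 4 * Nat.card F))
    {p : ℕ} (hy : ∀ (cc : ℕ → F) (h : (comp n cc).det = 1), PE p 10 (slE R (Fin n) (compSL n cc h))) :
    PW p 70 (E (HU (Fin n) R)) := by
  have hn : 3 ≤ n := by omega
  have hq : 2 ≤ Nat.card F := Finite.one_lt_card
  have hA := lemmaA hn hR (by omega)
  have hc : Nat.card {y : Module.End F U // ∀ u, R (y u) = R u} ≤ c := by
    rcases hcase with ⟨rfl, -, rfl⟩ | ⟨rfl, -, -, rfl⟩ | ⟨rfl, -, rfl⟩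
    · exact Cfsg.Agent.H990.TC.Cent.card_iso_zero R hr
    · exact Cfsg.Agent.H990.TC.Cent.card_iso_one R (nd hR) hr
    · exact Cfsg.Agent.H990.TC.Cent.card_iso_two R (nd hR) hr
  subst hr
  exact engine hn hR (centB_of hc) hA (H889.Og.num hn hq (by
    rcases hcase with ⟨h1, h2, h3⟩ | ⟨h1, h2, h3, h4⟩ | ⟨h1, h2, h3⟩
    · exact Or.inl ⟨h1, h2, h3⟩
    · exact Or.inr (Or.inl ⟨h1, h3, h4⟩)
    · exact Or.inr (Or.inr ⟨h1, h3⟩))) hy

theorem hy_sl {n p : ℕ} (hp : p.Prime) (hn : 3 ≤ n) (hd : p ∣ Nat.card (SpecialLinearGroup (Fin n) F))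
    (R : QuadraticForm F U) (cc : ℕ → F) (h : (comp n cc).det = 1) :
    PE p 10 (slE R (Fin n) (compSL n cc h)) :=
  (pe_compSL hp hn hd cc h).map _

theorem hy_win {n p i : ℕ} (hp : p.Prime) (hi : 3 ≤ i) (hi1 : i + 1 ≤ n) (hi2 : n < 2 * i)
    (ho : orderOf ((Nat.card F : ℕ) : ZMod p) = 2 * i) (R : QuadraticForm F U) (cc : ℕ → F)
    (h : (comp n cc).det = 1) : PE p 10 (slE R (Fin n) (compSL n cc h)) :=
  windows hi1 hi2 R (H166.Og.lemmaX_plus hi hp ho (fun x _ => Subsingleton.elim _ _) (by simp)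
    (lemmaA (by omega) (fun x _ => Subsingleton.elim _ _) (by simp; omega))) cc h

theorem lemmaX_seven {p : ℕ} (hp : p.Prime) (ho : orderOf ((Nat.card F : ℕ) : ZMod p) = 4)
    (h2 : (2 : F) ≠ 0) {R : QuadraticForm F U} (hR : Nondeg R) (hU : finrank F U = 1) :
    PW p 70 (E (HU (Fin 3) R)) :=
  H16.Og.lemmaX_seven_of hp ho h2 hR hU (by
    have := lemmaA (n := 3) le_rfl hR (by omega)
    rwa [hU] at this)

theorem lemmaX_eight {p : ℕ} (hp : p.Prime) (ho : orderOf ((Nat.card F : ℕ) : ZMod p) = 4)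
    {R : QuadraticForm F U} (hR : Nondeg R) (hU : finrank F U = 2) (han : ∀ u, R u = 0 → u = 0) :
    PW p 70 (E (HU (Fin 3) R)) := by
  have hq : 2 ≤ Nat.card F := Finite.one_lt_card
  rcases Nat.lt_or_ge 2 (Nat.card F) with h | h
  · exact H127.Og.lemmaX_eight h hp ho hR hU han
  · have h2 : Nat.card F = 2 := le_antisymm h hq
    refine H124.Og.lemmaX_eight_two h2 hp ho hR hU ?_
    have := lemmaA (n := 3) le_rfl hR (by omega)
    rwa [hU, h2] at this

theorem pw_plus {n : ℕ} (hn : 4 ≤ n) {R : QuadraticForm F U} (hR : Nondeg R) (hU : finrank F U = 0) {p : ℕ}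
    (hp : p.Prime) (hd : p ∣ Nat.card F ^ (n * (n - 1)) * (Nat.card F ^ n - 1) *
        ∏ i ∈ Finset.range (n - 1), (Nat.card F ^ (2 * (i + 1)) - 1)) : PW p 70 (E (HU (Fin n) R)) := by
  have hq : 1 < Nat.card F := Finite.one_lt_card
  refine engine' (c := 1) hR hU (Or.inl ⟨rfl, hn, rfl⟩) ?_
  by_cases hs : p ∣ Nat.card (SpecialLinearGroup (Fin n) F)
  · exact hy_sl hp (by omega) hs R
  · obtain ⟨h1, h2⟩ := not_dvd_of_sl (by omega) hs
    rw [hp.dvd_mul, hp.dvd_mul] at hd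
    rcases hd with (hd | hd) | hd
    · exact absurd (hp.dvd_of_dvd_pow hd) h1
    · exact absurd hd (h2 n (by omega) le_rfl)
    · obtain ⟨j, hj, hd⟩ := (Prime.dvd_finsetProd_iff hp.prime _).1 hd
      have hj' := Finset.mem_range.1 hj
      obtain ⟨h3, h4⟩ := ord_eq hp hq h1 h2 (j := j + 1) (by omega) (by omega) hd
      exact hy_win hp (by omega) (by omega) h4 h3 R

theorem pw_odd {n : ℕ} (hn : 3 ≤ n) {R : QuadraticForm F U} (hR : Nondeg R) (hU : finrank F U = 1)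
    (hF : (2 : F) ≠ 0) {p : ℕ} (hp : p.Prime)
    (hd : p ∣ Nat.card F ^ (n ^ 2) * ∏ i ∈ Finset.range n, (Nat.card F ^ (2 * (i + 1)) - 1)) :
    PW p 70 (E (HU (Fin n) R)) := by
  have hq : 1 < Nat.card F := Finite.one_lt_card
  have hq3 : 3 ≤ Nat.card F := by
    by_contra hc
    have h2 : Nat.card F = 2 := by omega
    apply hF
    have := Fintype.ofFinite F
    rw [Nat.card_eq_fintype_card] at h2
    have h3 : ((Fintype.card F : ℕ) : F) = 0 := FiniteField.cast_card_eq_zero F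
    rw [h2] at h3
    exact_mod_cast h3
  by_cases hs : p ∣ Nat.card (SpecialLinearGroup (Fin n) F)
  · exact engine' (c := 2) hR hU (Or.inr (Or.inl ⟨rfl, hn, hq3, rfl⟩)) (hy_sl hp (by omega) hs R)
  · obtain ⟨h1, h2⟩ := not_dvd_of_sl (by omega) hs
    rw [hp.dvd_mul] at hd
    rcases hd with hd | hd
    · exact absurd (hp.dvd_of_dvd_pow hd) h1
    · obtain ⟨j, hj, hd⟩ := (Prime.dvd_finsetProd_iff hp.prime _).1 hd
      have hj' := Finset.mem_range.1 hj
      obtain ⟨h3, h4⟩ := ord_eq hp hq h1 h2 (j := j + 1) (by omega) (by omega) hd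
      rcases Nat.lt_or_ge (j + 1) n with h5 | h5
      · rcases Nat.lt_or_ge 2 (j + 1) with h6 | h6
        · exact engine' (c := 2) hR hU (Or.inr (Or.inl ⟨rfl, hn, hq3, rfl⟩)) (hy_win hp h6 (by omega) h4 h3 R)
        · obtain rfl : n = 3 := by omega
          obtain rfl : j = 1 := by omega
          exact lemmaX_seven hp h3 hF hR hU
      · obtain rfl : n = j + 1 := by omega
        exact H166.Og.lemmaX_odd hn hp h3 hF hR hU (lemmaA hn hR (by omega))

theorem pw_minus {n : ℕ} (hn : 3 ≤ n) {R : QuadraticForm F U} (hR : Nondeg R) (hU : finrank F U = 2)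
    (han : ∀ u, R u = 0 → u = 0) {p : ℕ} (hp : p.Prime)
    (hd : p ∣ Nat.card F ^ ((n + 1) * n) * (Nat.card F ^ (n + 1) + 1) *
        ∏ i ∈ Finset.range n, (Nat.card F ^ (2 * (i + 1)) - 1)) :
    PW p 70 (E (HU (Fin n) R)) := by
  have hq : 1 < Nat.card F := Finite.one_lt_card
  by_cases hs : p ∣ Nat.card (SpecialLinearGroup (Fin n) F)
  · exact engine' hR hU (Or.inr (Or.inr ⟨rfl, hn, rfl⟩)) (hy_sl hp (by omega) hs R)
  · obtain ⟨h1, h2⟩ := not_dvd_of_sl (by omega) hs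
    rw [hp.dvd_mul, hp.dvd_mul] at hd
    rcases hd with (hd | hd) | hd
    · exact absurd (hp.dvd_of_dvd_pow hd) h1
    · exact H166.Og.lemmaX_minus hn (Or.inr rfl) hp (ord_eq' hp hq (by omega) h1 h2 hd) hR hU han
        (lemmaA hn hR (by omega))
    · obtain ⟨j, hj, hd⟩ := (Prime.dvd_finsetProd_iff hp.prime _).1 hd
      have hj' := Finset.mem_range.1 hj
      obtain ⟨h3, h4⟩ := ord_eq hp hq h1 h2 (j := j + 1) (by omega) (by omega) hd
      rcases Nat.lt_or_ge (j + 1) n with h5 | h5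
      · rcases Nat.lt_or_ge 2 (j + 1) with h6 | h6
        · exact engine' hR hU (Or.inr (Or.inr ⟨rfl, hn, rfl⟩)) (hy_win hp h6 (by omega) h4 h3 R)
        · obtain rfl : n = 3 := by omega
          obtain rfl : j = 1 := by omega
          exact lemmaX_eight hp h3 hR hU han
      · obtain rfl : n = j + 1 := by omega
        exact H166.Og.lemmaX_minus hn (Or.inl rfl) hp h3 hR hU han (lemmaA hn hR (by omega))

end

/-- **`PΩ⁺`** -/
theorem pw_omegaPlus {S : Type*} [Group S] [Finite S] [IsSimpleGroup S] {l : ℕ} (h : IsPOmegaPlusChar l S)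
    {p : ℕ} (hp : p.Prime) (hd : p ∣ Nat.card S) : PW p 70 S := by
  obtain ⟨F, _, _, U, _, _, _, n, R, hn, hU, hR, hcard, ⟨e⟩⟩ := H36.Og.transPlus h
  exact ((pw_plus hn hR hU hp (hd.trans hcard)).map (QuotientGroup.mk' _) (QuotientGroup.mk'_surjective _)).congr e

/-- **`PΩ⁻`** -/
theorem pw_omegaMinus {S : Type*} [Group S] [Finite S] [IsSimpleGroup S] {l : ℕ} (h : IsPOmegaMinusChar l S)
    {p : ℕ} (hp : p.Prime) (hd : p ∣ Nat.card S) : PW p 70 S := by
  obtain ⟨F, _, _, U, _, _, _, n, R, hn, hU, hR, han, hcard, ⟨e⟩⟩ := H926.TransMinus.transMinus h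
  exact ((pw_minus hn hR hU han hp (hd.trans hcard)).map (QuotientGroup.mk' _)
    (QuotientGroup.mk'_surjective _)).congr e

/-- **`PΩ`**, odd dimension -/
theorem pw_omegaOdd {S : Type*} [Group S] [Finite S] [IsSimpleGroup S] {l : ℕ} (h : IsPOmegaOddChar l S)
    {p : ℕ} (hp : p.Prime) (hd : p ∣ Nat.card S) : PW p 70 S := by
  obtain ⟨F, _, _, U, _, _, _, n, R, hn, hU, hR, hF, hcard, ⟨e⟩⟩ := transOdd h
  exact ((pw_odd hn hR hU hF hp (hd.trans hcard)).map (QuotientGroup.mk' _)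
    (QuotientGroup.mk'_surjective _)).congr e

end Cfsg.Agent.H105.Og
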